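import Groth.Agent.L05.RelMinExists.Contract

/-!
# Every arithmetic surface maps birationally to a relatively minimal one
-/

set_option autoImplicit false
set_option linter.style.haveILetI false
set_option backward.isDefEq.respectTransparency false

universe u

open CategoryTheory CategoryTheory.Limits AlgebraicGeometry TopologicalSpace Topology

noncomputable section

namespace Groth.L05.RelMinExists

variable {R : Type u} [CommRing R] [IsDedekindDomain R]

theorem isProper_of_projective {X : Over (Spec (CommRingCat.of R))} (h : Neron.IsProjectiveOver R X) :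
    IsProper X.hom := by
  obtain ⟨n, i, hi, hiX⟩ := h
  haveI := hi
  haveI : IsProper (CohB1.ProjSpaceOver.toBase n (Spec (CommRingCat.of R))) :=
    MorphismProperty.pullback_snd (P := @IsProper) _ _ inferInstance
  exact hiX ▸ inferInstance

theorem isIso_of_isIso_restrict {X Y : Scheme.{u}} (g : X ⟶ Y) (V : Y.Opens) [IsIso (g ∣_ V)] (hV : ∀ y, y ∈ V) :
    IsIso g := by
  obtain rfl : V = ⊤ := eq_top_iff.2 fun y _ => hV y
  haveI : IsIso (g ⁻¹ᵁ (⊤ : Y.Opens)).ι := inferInstanceAs (IsIso X.topIso.hom)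
  haveI : IsIso (⊤ : Y.Opens).ι := inferInstanceAs (IsIso Y.topIso.hom)
  have h := morphismRestrict_ι g ⊤
  rw [show g = inv (g ⁻¹ᵁ ⊤).ι ≫ (g ∣_ ⊤) ≫ (⊤ : Y.Opens).ι by rw [h, IsIso.inv_hom_id_assoc]]
  infer_instance

theorem eq_of_isIso_restrict' {X Y : Scheme.{u}} (g : X ⟶ Y) (V : Y.Opens) [IsIso (g ∣_ V)] {a c : X}
    (ha : g a ∈ V) (hac : g a = g c) : a = c := by
  have hc : g c ∈ V := hac ▸ ha
  refine congrArg Subtype.val ((g ∣_ V).homeomorph.injective (a₁ := ⟨a, ha⟩) (a₂ := ⟨c, hc⟩) (Subtype.ext ?_))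
  show ((g ∣_ V) ⟨a, ha⟩).1 = ((g ∣_ V) ⟨c, hc⟩).1
  rw [morphismRestrict_base_coe, morphismRestrict_base_coe]
  exact hac

/-- A birational morphism between surfaces: integral target of dimension two. -/
theorem isArithSurface_target {X Y : Over (Spec (CommRingCat.of R))} (hX : ArSurf.IsArithSurface R X)
    (hY : ∀ y : Y.left, IsRegularLocalRing (Y.left.presheaf.stalk y)) (hpY : Neron.IsProjectiveOver R Y)
    (hfY : Flat Y.hom) (g : X ⟶ Y) (hg : IsIso ((Neron.genericFibre R).map g)) : ArSurf.IsArithSurface R Y := by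
  obtain ⟨-, hiX, hdX, hfX, hpX⟩ := hX
  haveI := hiX; haveI := hfX; haveI := hfY
  haveI := isProper_of_projective (X := X) hpX
  haveI := isProper_of_projective hpY
  obtain ⟨hiY, hsurj, hξ, V, hV, hηV, hexc⟩ := exists_isIso_open X Y hdX.le hY g hg
  haveI := hV
  haveI : IsProper (g.left ≫ Y.hom) := by rw [Over.w g]; infer_instance
  haveI : IsProper g.left := IsProper.of_comp g.left Y.hom
  refine ⟨hY, hiY, le_antisymm ((topologicalKrullDim_le_of_proper_surjective g.left hsurj).trans hdX.le) ?_, hfY, hpY⟩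
  by_cases hall : ∀ y, y ∈ V
  · haveI := isIso_of_isIso_restrict g.left V hall
    exact (hdX.ge.trans (IsHomeomorph.topologicalKrullDim_eq _ g.left.homeomorph.isHomeomorph).le)
  · push Not at hall
    obtain ⟨y, hy⟩ := hall
    exact (hexc y hy).1.trans (Groth.L15.CohFlat.ringKrullDim_stalk_le y)

/-- The candidates for contracted curves. -/
def badPts (X : Over (Spec (CommRingCat.of R))) (T : Set (Spec (CommRingCat.of R))) : Set X.left :=
  {x | X.hom x ∈ T ∧ ∀ w : X.left, X.hom w = X.hom x → w ⤳ x → w = x}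

theorem finite_badPts (X : Over (Spec (CommRingCat.of R))) [IsProper X.hom] {T : Set (Spec (CommRingCat.of R))}
    (hT : T.Finite) : (badPts X T).Finite := by
  have h : badPts X T ⊆ ⋃ s ∈ T, (X.hom.fiberι s) '' {a | ∀ w, w ⤳ a → w = a} := by
    rintro x ⟨hx, hmax⟩
    refine Set.mem_biUnion hx ?_
    obtain ⟨a, ha⟩ : x ∈ Set.range (X.hom.fiberι (X.hom x)) := by rw [Scheme.Hom.range_fiberι]; rfl
    refine ⟨a, fun w hw => (X.hom.fiberι _).isEmbedding.injective
      ((hmax _ ?_ (by have h' := hw.map (X.hom.fiberι (X.hom x)).continuous; rwa [ha] at h')).trans ha.symm), ha⟩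
    have h : X.hom.fiberι (X.hom x) w ∈ Set.range (X.hom.fiberι (X.hom x)) := ⟨w, rfl⟩
    rwa [Scheme.Hom.range_fiberι] at h
  refine (hT.biUnion fun s _ => Set.Finite.image _ ?_).subset h
  haveI : LocallyOfFiniteType (X.hom.fiberToSpecResidueField s) :=
    MorphismProperty.pullback_snd (P := @LocallyOfFiniteType) _ _ inferInstance
  haveI : IsLocallyNoetherian (X.hom.fiber s) := LocallyOfFiniteType.isLocallyNoetherian (X.hom.fiberToSpecResidueField s)
  haveI : IsNoetherian (X.hom.fiber s) := {}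
  haveI : Finite (irreducibleComponents (X.hom.fiber s)) := NoetherianSpace.finite_irreducibleComponents.to_subtype
  haveI : Finite {a : X.hom.fiber s | ∀ w, w ⤳ a → w = a} :=
    Finite.of_injective (fun a => (⟨closure {a.1}, Groth.L22.GeomConn.closure_mem_irreducibleComponents a.2⟩ :
      irreducibleComponents (X.hom.fiber s)))
      fun a b h => Subtype.ext ((inseparable_iff_closure_eq.2 (congrArg Subtype.val h)).eq)
  exact Set.toFinite _

theorem exists_relMinimal (X : Over (Spec (CommRingCat.of R))) (hX : ArSurf.IsArithSurface R X) :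
    ∃ (Y : Over (Spec (CommRingCat.of R))) (f : X ⟶ Y), ArSurf.IsArithSurface R Y ∧
      Neron.IsRelMinimalRegularModel R Y ∧ IsIso ((Neron.genericFibre R).map f) := by
  classical
  obtain ⟨hrX, hiX, hdX, hfX, hpX⟩ := hX
  haveI := hiX; haveI := hfX
  haveI := isProper_of_projective (X := X) hpX
  have hNX : ∀ x : X.left, IsIntegrallyClosed (X.left.presheaf.stalk x) := fun x => by
    haveI := hrX x; exact Groth.L03.RegularNormal.isIntegrallyClosed _
  obtain ⟨T, hTfin, hT0, hT⟩ := exists_finite_bad X.hom hNX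
  let B := badPts X T
  have hB : B.Finite := finite_badPts X hTfin
  let C : ∀ {Y : Over (Spec (CommRingCat.of R))}, (X ⟶ Y) → Set X.left := fun g =>
    {x ∈ B | ∀ d, g.left x ⤳ d → d = g.left x}
  suffices key : ∀ n, ∀ (Y : Over (Spec (CommRingCat.of R))) (f : X ⟶ Y), ArSurf.IsArithSurface R Y →
      IsIso ((Neron.genericFibre R).map f) → (B \ C f).ncard = n →
      ∃ (Y : Over (Spec (CommRingCat.of R))) (f : X ⟶ Y), ArSurf.IsArithSurface R Y ∧
        Neron.IsRelMinimalRegularModel R Y ∧ IsIso ((Neron.genericFibre R).map f) by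
    refine key _ X (𝟙 X) ⟨hrX, hiX, hdX, hfX, hpX⟩ ?_ rfl
    rw [CategoryTheory.Functor.map_id]; infer_instance
  intro n
  induction n using Nat.strong_induction_on with
  | _ n ih =>
  intro Y f hY hf hn
  obtain ⟨hrY, hiY, hdY, hfY, hpY⟩ := hY
  by_cases hmin : Neron.IsRelMinimalRegularModel R Y
  · exact ⟨Y, f, ⟨hrY, hiY, hdY, hfY, hpY⟩, hmin, hf⟩
  obtain ⟨Z, hrZ, hpZ, hfZ, h, hh, hhiso⟩ : ∃ Z : Over (Spec (CommRingCat.of R)),
      (∀ z : Z.left, IsRegularLocalRing (Z.left.presheaf.stalk z)) ∧ Neron.IsProjectiveOver R Z ∧ Flat Z.hom ∧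
      ∃ h : Y ⟶ Z, IsIso ((Neron.genericFibre R).map h) ∧ ¬ IsIso h := by
    by_contra hno
    refine hmin ⟨hrY, hpY, hfY, fun Z hrZ hpZ hfZ h hh => ?_⟩
    by_contra hi
    exact hno ⟨Z, hrZ, hpZ, hfZ, h, hh, hi⟩
  have hfh : IsIso ((Neron.genericFibre R).map (f ≫ h)) := by
    haveI := hf; haveI := hh
    rw [Functor.map_comp]; infer_instance
  have hZ := isArithSurface_target ⟨hrY, hiY, hdY, hfY, hpY⟩ hrZ hpZ hfZ h hh
  refine ih _ ?_ Z (f ≫ h) hZ hfh rfl
  rw [← hn]
  haveI := hiY; haveI := hfY; haveI := hfZ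
  haveI := isProper_of_projective (X := Y) hpY
  haveI := isProper_of_projective hpZ
  haveI : IsProper (f.left ≫ Y.hom) := by rw [Over.w f]; infer_instance
  haveI : IsProper f.left := IsProper.of_comp f.left Y.hom
  haveI : IsProper (h.left ≫ Z.hom) := by rw [Over.w h]; infer_instance
  haveI : IsProper h.left := IsProper.of_comp h.left Z.hom
  haveI : IsProper (f ≫ h).left := inferInstanceAs (IsProper (f.left ≫ h.left))
  refine Set.ncard_lt_ncard ?_ hB.diff
  have hmono : C f ⊆ C (f ≫ h) := fun x hx => ⟨hx.1, fun d hd => by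
    have hcl : IsClosed ({f.left x} : Set Y.left) := by
      refine isClosed_iff_nhds.2 fun c hc => ?_
      exact hx.2 c (specializes_iff_mem_closure.2 (mem_closure_iff_nhds.2 hc))
    have hcl' : IsClosed ({(f ≫ h).left x} : Set Z.left) := by
      have h' := h.left.isClosedMap _ hcl
      rwa [Set.image_singleton] at h'
    exact hd.mem_closed hcl' rfl⟩
  refine ⟨Set.sdiff_subset_sdiff_right hmono, fun hsub => ?_⟩
  -- a point of `Y` contracted by `h`
  obtain ⟨_, -, hξh, V, hV, -, hexc⟩ := exists_isIso_open Y Z hdY.le hrZ h hh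
  haveI := hV
  obtain ⟨y, hy⟩ : ∃ y, y ∉ V := by
    by_contra hall
    push Not at hall
    haveI := isIso_of_isIso_restrict h.left V hall
    haveI : IsIso ((Over.forget (Spec (CommRingCat.of R))).map h) := ‹IsIso h.left›
    exact hhiso (isIso_of_reflects_iso h (Over.forget _))
  obtain ⟨hy2, hys, hycl, hyη⟩ := hexc y hy
  obtain ⟨_, hsurjh, -, -⟩ := exists_isIso_open Y Z hdY.le hrZ h hh
  obtain ⟨z, hz⟩ := hsurjh y
  obtain ⟨ζ, d, hζy, -, hζd, hζne⟩ := hyη z hz
  obtain ⟨_, hsurjf, -, -⟩ := exists_isIso_open X Y hdX.le hrY f hf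
  obtain ⟨x, rfl⟩ := hsurjf ζ
  -- the base point is bad
  obtain ⟨hiZ', hsurj, hξ, W, hW, -, hWexc⟩ := exists_isIso_open X Z hdX.le hrZ (f ≫ h) hfh
  haveI := hW
  have hgenX : (X.hom (genericPoint X.left)).asIdeal = ⊥ := by
    obtain ⟨w, hwy, hw0⟩ := Flat.generalizingMap X.hom
      ((PrimeSpectrum.le_iff_specializes (⊥ : PrimeSpectrum R) _).1 bot_le :
        (⊥ : PrimeSpectrum R) ⤳ X.hom (genericPoint X.left))
    have : w = genericPoint X.left := (hwy.antisymm (genericPoint_specializes w)).eq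
    rw [← this, hw0]
    rfl
  obtain ⟨d', hd'1, hd'2⟩ : ∃ d', x ⤳ d' ∧ f.left d' = d := by
    obtain ⟨d', h1, h2⟩ := hζd.mem_closed (f.left.isClosedMap _ (isClosed_closure (s := ({x} : Set X.left))))
      ⟨x, subset_closure rfl, rfl⟩
    exact ⟨d', specializes_iff_mem_closure.2 h1, h2⟩
  have hxy : (f ≫ h).left x = y := hζy
  have hd'y : (f ≫ h).left d' = y := hycl _ (hxy ▸ hd'1.map (f ≫ h).left.continuous)
  have hne' : x ≠ d' := fun he => hζne (by rw [← hd'2, he])
  have hyW : y ∉ W := fun hyW => hne' (eq_of_isIso_restrict' (f ≫ h).left W (by rw [hxy]; exact hyW) (hxy.trans hd'y.symm))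
  obtain ⟨hW2, -, -, hWη⟩ := hWexc y hyW
  have hbase : Z.hom y ∈ T :=
    base_mem_of_exceptional X Z hdX.le T hT (f ≫ h) hsurj hgenX y hW2 hys hWη
  have hxs : X.hom x = Z.hom y := by
    rw [← hxy, ← Scheme.Hom.comp_apply, Over.w]
  have hxB : x ∈ B := by
    refine ⟨hxs ▸ hbase, fun w hw hwx => ?_⟩
    by_contra hne
    exact hne (Groth.L05.SmoothRelMin.eq_of_chain hdX.le (genericPoint_specializes w) hwx hd'1
      (fun he => hys (by rw [← hxs, ← hw, ← he]; exact hgenX)) hne')
  have hx1 : x ∈ C (f ≫ h) := ⟨hxB, fun e he => (hycl e (hxy ▸ he)).trans hxy.symm⟩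
  have hx2 : x ∉ C f := fun hx => hζne (hx.2 d hζd).symm
  exact (hsub ⟨hxB, hx2⟩).2 hx1

end Groth.L05.RelMinExists
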