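import Groth.Agent.S0419
import Groth.Agent.L22.GeomConn.Crit
import Groth.Agent.L19.NormalSections
import Groth.Agent.L00.ProperNorm
import Mathlib.RingTheory.Localization.Integral
import Mathlib.RingTheory.Jacobson.Ring

/-!
# Almost all fibres of a normal proper scheme over a Dedekind scheme have irreducible connected components
-/

set_option autoImplicit false
set_option linter.style.haveILetI false
set_option backward.isDefEq.respectTransparency false

universe u

open CategoryTheory CategoryTheory.Limits AlgebraicGeometry TopologicalSpace Topology Opposite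

noncomputable section

namespace Groth.L05.RelMinExists

variable {X : Scheme.{u}} [IsIntegral X]

/-- The ring of global functions. -/
abbrev A (X : Scheme.{u}) : Type u := Γ(X, ⊤)

/-- The generic point of the spectrum of the global functions. -/
def η (X : Scheme.{u}) [IsIntegral X] : Spec Γ(X, ⊤) := (⟨⊥, Ideal.isPrime_bot⟩ : PrimeSpectrum Γ(X, ⊤))

/-- Evaluation at the generic point. -/
abbrev gm (X : Scheme.{u}) [IsIntegral X] : Γ(X, ⊤) →+* X.functionField :=
  (X.presheaf.germ ⊤ (genericPoint X) trivial).hom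

theorem toSpecΓ_genericPoint : X.toSpecΓ (genericPoint X) = η X := by
  refine PrimeSpectrum.ext ?_
  show _ = (⊥ : Ideal Γ(X, ⊤))
  have h : X.fromSpecStalk (genericPoint X) ≫ X.toSpecΓ = Spec.map (X.presheaf.germ ⊤ (genericPoint X) trivial) :=
    Scheme.fromSpecStalk_toSpecΓ X _
  have h1 := congrArg (fun φ => (φ (IsLocalRing.closedPoint (X.presheaf.stalk (genericPoint X)))).asIdeal) h
  simp only [Scheme.Hom.comp_apply, Scheme.fromSpecStalk_closedPoint] at h1
  rw [h1]
  show Ideal.comap (gm X) (IsLocalRing.maximalIdeal X.functionField) = ⊥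
  rw [IsLocalRing.maximalIdeal_eq_bot, ← RingHom.ker_eq_comap_bot]
  exact (RingHom.injective_iff_ker_eq_bot _).1 (germ_injective_of_isIntegral X _ (U := ⊤) trivial)

theorem exists_section_at (hN : ∀ x : X, IsIntegrallyClosed (X.presheaf.stalk x)) (x : X) (hx : x = genericPoint X)
    (z : X.presheaf.stalk x) (hz : ((X.presheaf.germ ⊤ x trivial).hom).IsIntegralElem z) :
    ∃ t : Γ(X, ⊤), X.presheaf.germ ⊤ x trivial t = z := by
  subst hx
  exact Groth.L19.NormalSec.exists_section_of_isIntegral hN ⊤ trivial (RingHom.id _) z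
    (by rwa [RingHom.comp_id])

/-- A normal scheme is geometrically irreducible over the field of fractions of its functions. -/
theorem geometricallyIrreducible_genericFibre (hN : ∀ x : X, IsIntegrallyClosed (X.presheaf.stalk x)) :
    GeometricallyIrreducible (X.toSpecΓ.fiberToSpecResidueField (η X)) := by
  let q := X.toSpecΓ
  let κ := (Spec Γ(X, ⊤)).residueField (η X)
  let F := q.fiber (η X)
  let ι : F ⟶ X := q.fiberι (η X)
  let f := q.fiberToSpecResidueField (η X)
  obtain ⟨a, ha⟩ : genericPoint X ∈ Set.range ι := by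
    rw [Scheme.Hom.range_fiberι]; exact toSpecΓ_genericPoint
  have hgen : IsGenericPoint a (⊤ : Set F) := by
    show closure ({a} : Set F) = _
    refine Set.eq_univ_of_forall fun b => specializes_iff_mem_closure.1 ?_
    rw [← ι.isEmbedding.isInducing.specializes_iff, ha]
    exact genericPoint_specializes _
  haveI : IrreducibleSpace F := by
    refine (irreducibleSpace_def _).2 ?_
    rw [← show closure ({a} : Set F) = ⊤ from hgen]
    exact isIrreducible_singleton.closure
  obtain rfl : a = genericPoint F := hgen.eq (genericPoint_spec F)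
  let b := genericPoint F
  -- the two descriptions of the evaluation at the generic point
  let ψ : κ ⟶ F.residueField b := Spec.preimage (F.fromSpecResidueField b ≫ f)
  let π₀ : Γ(X, ⊤) ⟶ κ := Spec.preimage ((Spec Γ(X, ⊤)).fromSpecResidueField (η X))
  let φ : X.presheaf.stalk (ι b) ⟶ F.residueField b := X.residue (ι b) ≫ ι.residueFieldMap b
  have hφ : π₀ ≫ ψ = X.presheaf.germ ⊤ (ι b) trivial ≫ φ := by
    apply Spec.map_injective
    rw [Spec.map_comp, Spec.map_comp, Spec.map_preimage, Spec.map_preimage, Category.assoc,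
      ← Scheme.Hom.fiber_fac, ← Category.assoc]
    have h : X.fromSpecStalk (ι b) ≫ X.toSpecΓ = Spec.map (X.presheaf.germ ⊤ (ι b) trivial) :=
      Scheme.fromSpecStalk_toSpecΓ X _
    rw [← h, ← Category.assoc]
    congr 1
    rw [Spec.map_comp, Category.assoc]
    exact (Scheme.Hom.SpecMap_residueFieldMap_fromSpecResidueField ι b).symm
  letI iκ : Algebra κ (F.residueField b) := ψ.hom.toAlgebra
  refine Groth.L22.GeomConn.geometricallyIrreducible_of_separable_elements (k := κ) f ?_ ?_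
  · show Spec.map (CommRingCat.ofHom ψ.hom) = _
    exact Spec.map_preimage _
  intro α hα
  -- clear denominators
  letI iA : Algebra Γ(X, ⊤) κ := π₀.hom.toAlgebra
  letI iF : Algebra Γ(X, ⊤) (F.residueField b) := (ψ.hom.comp π₀.hom).toAlgebra
  haveI : IsScalarTower Γ(X, ⊤) κ (F.residueField b) := IsScalarTower.of_algebraMap_eq' rfl
  have hπ₀ : π₀ = CommRingCat.ofHom (algebraMap Γ(X, ⊤) (η X).asIdeal.ResidueField) ≫
      (Scheme.Spec.residueFieldIso Γ(X, ⊤) (η X)).inv := by
    apply Spec.map_injective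
    rw [Spec.map_comp, Spec.map_preimage]
    exact (Scheme.Spec.map_residueFieldIso_inv_eq_fromSpecResidueField _ _).symm
  haveI : IsFractionRing Γ(X, ⊤) κ := by
    have hinj : Function.Injective (algebraMap Γ(X, ⊤) κ) := by
      show Function.Injective π₀.hom
      rw [hπ₀]
      refine (Scheme.Spec.residueFieldIso Γ(X, ⊤) (η X)).commRingCatIsoToRingEquiv.symm.injective.comp ?_
      refine (RingHom.injective_iff_ker_eq_bot _).2 ?_
      exact Ideal.ker_algebraMap_residueField (η X).asIdeal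
    refine ⟨fun s => (isUnit_iff_ne_zero).2 fun h => nonZeroDivisors.ne_zero s.2 (hinj (h.trans (map_zero _).symm)),
      fun c => ?_, fun {x y} h => ⟨1, by rw [hinj h]⟩⟩
    let p := (η X).asIdeal
    obtain ⟨w, hw⟩ := Ideal.Quotient.mk_surjective
      ((Scheme.Spec.residueFieldIso Γ(X, ⊤) (η X)).commRingCatIsoToRingEquiv c)
    obtain ⟨⟨r, s⟩, hrs⟩ := IsLocalization.surj p.primeCompl w
    refine ⟨⟨r, ⟨s.1, mem_nonZeroDivisors_of_ne_zero fun h => s.2 (by rw [h]; exact zero_mem _)⟩⟩, ?_⟩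
    show c * π₀.hom s.1 = π₀.hom r
    rw [hπ₀]
    apply (Scheme.Spec.residueFieldIso Γ(X, ⊤) (η X)).commRingCatIsoToRingEquiv.injective
    rw [map_mul]
    simp only [CommRingCat.hom_comp, RingHom.comp_apply, CommRingCat.hom_ofHom]
    show _ * (Scheme.Spec.residueFieldIso Γ(X, ⊤) (η X)).commRingCatIsoToRingEquiv
      ((Scheme.Spec.residueFieldIso Γ(X, ⊤) (η X)).commRingCatIsoToRingEquiv.symm _) =
      (Scheme.Spec.residueFieldIso Γ(X, ⊤) (η X)).commRingCatIsoToRingEquiv
      ((Scheme.Spec.residueFieldIso Γ(X, ⊤) (η X)).commRingCatIsoToRingEquiv.symm _)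
    rw [RingEquiv.apply_symm_apply, RingEquiv.apply_symm_apply, ← hw]
    exact (map_mul (IsLocalRing.residue (Localization.AtPrime p)) w (algebraMap _ _ s.1)).symm.trans (congrArg _ hrs)
  obtain ⟨r, hr⟩ := IsIntegral.exists_multiple_integral_of_isLocalization (nonZeroDivisors Γ(X, ⊤)) α
    hα.isIntegral
  -- descend to global functions
  have hF : IsField (X.presheaf.stalk (ι b)) := by
    rw [ha]; exact Field.toIsField X.functionField
  have hφb : Function.Bijective φ.hom := by
    letI := hF.toField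
    refine ⟨φ.hom.injective, ?_⟩
    intro w
    obtain ⟨v, rfl⟩ := F.residue_surjective b w
    obtain ⟨t, rfl⟩ := ι.stalkMap_surjective b v
    exact ⟨t, congr($(Scheme.residue_residueFieldMap (f := ι) b) t)⟩
  obtain ⟨z, hz⟩ := hφb.2 ((r : Γ(X, ⊤)) • α)
  obtain ⟨P, hPm, hP⟩ := hr
  have hzint : ((X.presheaf.germ ⊤ (ι b) trivial).hom).IsIntegralElem z := by
    refine ⟨P, hPm, hφb.1 ?_⟩
    rw [Polynomial.hom_eval₂, map_zero, ← CommRingCat.hom_comp, ← hφ, hz]
    exact hP
  obtain ⟨t, ht⟩ := exists_section_at hN (ι b) ha z hzint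
  refine ⟨IsLocalization.mk' κ t r, ?_⟩
  have h1 : algebraMap Γ(X, ⊤) (F.residueField b) t = (r : Γ(X, ⊤)) • α := by
    rw [← hz, ← ht]
    exact congr($hφ t)
  have hr0 : algebraMap Γ(X, ⊤) (F.residueField b) r ≠ 0 := by
    show ψ.hom (algebraMap Γ(X, ⊤) κ r) ≠ 0
    exact fun h => IsFractionRing.to_map_ne_zero_of_mem_nonZeroDivisors r.2 (ψ.hom.injective (h.trans (map_zero _).symm))
  apply mul_left_cancel₀ hr0
  rw [← Algebra.smul_def (r : Γ(X, ⊤)) α, ← h1, IsScalarTower.algebraMap_apply Γ(X, ⊤) κ (F.residueField b) r,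
    ← map_mul, IsLocalization.mk'_spec', IsScalarTower.algebraMap_apply Γ(X, ⊤) κ (F.residueField b) t]

variable {R : Type u} [CommRing R] [IsDedekindDomain R] (q : X ⟶ Spec (CommRingCat.of R)) [IsProper q]

/-- Outside a finite set of closed points, every point of a fibre has a least generalisation in the fibre. -/
theorem exists_finite_bad (hN : ∀ x : X, IsIntegrallyClosed (X.presheaf.stalk x))
    :
    ∃ T : Set (Spec (CommRingCat.of R)), T.Finite ∧ (∀ s ∈ T, s.asIdeal ≠ ⊥) ∧
      ∀ z : X, (q z).asIdeal ≠ ⊥ → q z ∉ T →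
        ∃ e : X, q e = q z ∧ e ⤳ z ∧ ∀ w : X, q w = q z → w ⤳ z → e ⤳ w := by
  let g : R →+* Γ(X, ⊤) := Groth.L00.ProperNorm.glob q
  have hfin : g.Finite := Groth.L00.ProperNorm.finite_toGlobal q
  let q' := X.toSpecΓ
  let m : Spec Γ(X, ⊤) ⟶ Spec (CommRingCat.of R) := Spec.map (CommRingCat.ofHom g)
  have hm : q' ≫ m = q := by
    refine ext_of_isAffine ?_
    show (X.toSpecΓ ≫ m).appTop = _
    rw [Scheme.Hom.comp_appTop, Scheme.toSpecΓ_appTop, Scheme.ΓSpecIso_naturality]
    ext a
    obtain ⟨a, rfl⟩ := (Scheme.ΓSpecIso (CommRingCat.of R)).symm.commRingCatIsoToRingEquiv.surjective a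
    show g ((Scheme.ΓSpecIso (CommRingCat.of R)).hom ((Scheme.ΓSpecIso (CommRingCat.of R)).inv a)) = _
    rw [show (Scheme.ΓSpecIso (CommRingCat.of R)).hom ((Scheme.ΓSpecIso (CommRingCat.of R)).inv a) = a from
      congr($((Scheme.ΓSpecIso (CommRingCat.of R)).inv_hom_id) a)]
    rfl
  have hηgen : (η X : Spec Γ(X, ⊤)) = genericPoint (Spec Γ(X, ⊤)) := (genericPoint_eq_bot_of_affine _).symm
  haveI : LocallyOfFiniteType (q' ≫ m) := hm ▸ inferInstance
  haveI : LocallyOfFiniteType q' := locallyOfFiniteType_of_comp q' m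
  haveI : QuasiCompact (q' ≫ m) := hm ▸ inferInstance
  haveI : QuasiCompact q' := QuasiCompact.of_comp q' m
  obtain ⟨V, hVne, hV⟩ := Groth.Agent.S0419.result q' (hηgen ▸ geometricallyIrreducible_genericFibre hN)
  -- the complement of `V` is finite
  haveI : IsNoetherianRing Γ(X, ⊤) := by
    letI := g.toAlgebra
    haveI : Module.Finite R Γ(X, ⊤) := hfin
    exact IsNoetherianRing.of_finite R Γ(X, ⊤)
  have hηV : (η X : Spec Γ(X, ⊤)) ∈ V := by
    rw [hηgen]
    exact ((genericPoint_spec _).mem_open_set_iff V.2).2 (by simpa using hVne)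
  have hmax : ∀ p : Spec Γ(X, ⊤), p ∉ V → p.asIdeal.IsMaximal ∧ (m p).asIdeal ≠ ⊥ := by
    intro p hp
    letI := g.toAlgebra
    haveI : Module.Finite R Γ(X, ⊤) := hfin
    have hp0 : p.asIdeal ≠ ⊥ := fun h => hp (by rw [show p = η X from PrimeSpectrum.ext h]; exact hηV)
    have hne : (m p).asIdeal ≠ ⊥ := by
      show Ideal.comap (algebraMap R Γ(X, ⊤)) p.asIdeal ≠ ⊥
      exact fun h => hp0 (Ideal.eq_bot_of_comap_eq_bot (R := R) h)
    exact ⟨Ideal.isMaximal_of_isIntegral_of_isMaximal_comap (R := R) p.asIdeal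
      ((m p).isPrime.isMaximal hne), hne⟩
  have hC : ((V : Set (Spec Γ(X, ⊤)))ᶜ).Finite := by
    obtain ⟨I, hI⟩ := (PrimeSpectrum.isClosed_iff_zeroLocus_ideal _).1 V.2.isClosed_compl
    have hsub : PrimeSpectrum.asIdeal '' ((V : Set (Spec Γ(X, ⊤)))ᶜ) ⊆ I.minimalPrimes := by
      rintro _ ⟨p, hp, rfl⟩
      have hIp : I ≤ p.asIdeal := PrimeSpectrum.mem_zeroLocus _ _ |>.1 (hI.le hp)
      refine ⟨⟨p.isPrime, hIp⟩, fun Q hQ hQp => ?_⟩
      have hQV : (⟨Q, hQ.1⟩ : PrimeSpectrum Γ(X, ⊤)) ∈ ((V : Set (Spec Γ(X, ⊤)))ᶜ) :=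
        hI.ge ((PrimeSpectrum.mem_zeroLocus _ _).2 hQ.2)
      exact ((hmax _ hQV).1.eq_of_le p.isPrime.ne_top hQp).ge
    exact Set.Finite.of_finite_image ((Ideal.finite_minimalPrimes_of_isNoetherianRing _ I).subset hsub)
      (fun _ _ _ _ h => PrimeSpectrum.ext h)
  refine ⟨m '' (V : Set _)ᶜ, hC.image _, ?_, ?_⟩
  · rintro s ⟨p, hp, rfl⟩; exact (hmax p hp).2
  intro z hz hzT
  have hqz : ∀ w, m (q' w) = q w := fun w => by rw [← Scheme.Hom.comp_apply, hm]
  have hzV : q' z ∈ V := by
    by_contra h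
    exact hzT ⟨_, h, hqz z⟩
  haveI := hV
  letI := g.toAlgebra
  haveI : Module.Finite R Γ(X, ⊤) := hfin
  have hirr : IsPreirreducible (q' ⁻¹' {q' z}) ∧ IsClosed (q' ⁻¹' {q' z}) := by
    refine ⟨?_, ?_⟩
    · let v : V := ⟨q' z, hzV⟩
      let k := (q' ∣_ V).fiberι v ≫ (q' ⁻¹ᵁ V).ι
      have hk : Set.range k = q' ⁻¹' {q' z} := by
        ext w
        constructor
        · rintro ⟨d, rfl⟩
          have hd : (q' ∣_ V) ((q' ∣_ V).fiberι v d) = v := by
            have h : (q' ∣_ V).fiberι v d ∈ Set.range ((q' ∣_ V).fiberι v) := ⟨d, rfl⟩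
            rwa [Scheme.Hom.range_fiberι] at h
          show q' (((q' ∣_ V).fiberι v d).1) = q' z
          rw [← morphismRestrict_base_coe, hd]
        · intro hw
          have hwV : q' w ∈ V := by rw [show q' w = q' z from hw]; exact hzV
          obtain ⟨d, hd⟩ : (⟨w, hwV⟩ : (q' ⁻¹ᵁ V : Scheme)) ∈ Set.range ((q' ∣_ V).fiberι v) := by
            rw [Scheme.Hom.range_fiberι]
            refine Subtype.ext ?_
            show ((q' ∣_ V) ⟨w, hwV⟩).1 = q' z
            rw [morphismRestrict_base_coe]; exact hw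
          exact ⟨d, by show ((q' ∣_ V).fiberι v d).1 = w; rw [hd]⟩
      rw [← hk, ← Set.image_univ]
      exact ((IrreducibleSpace.isIrreducible_univ _).image _ k.continuous.continuousOn).2
    · refine IsClosed.preimage q'.continuous ((PrimeSpectrum.isClosed_singleton_iff_isMaximal (q' z)).2 ?_)
      refine Ideal.isMaximal_of_isIntegral_of_isMaximal_comap (R := R) (q' z).asIdeal ?_
      show (m (q' z)).asIdeal.IsMaximal
      rw [hqz]
      exact (q z).isPrime.isMaximal hz
  obtain ⟨e, he⟩ : ∃ e, IsGenericPoint e (q' ⁻¹' {q' z}) := QuasiSober.sober ⟨⟨z, rfl⟩, hirr.1⟩ hirr.2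
  refine ⟨e, ?_, he.specializes rfl, fun w hw hwz => he.specializes ?_⟩
  · rw [← hqz, ← hqz, show q' e = q' z from he.mem]
  show q' w = q' z
  letI := g.toAlgebra
  haveI : Module.Finite R Γ(X, ⊤) := hfin
  refine PrimeSpectrum.ext ?_
  by_contra hne
  have hle : (q' w).asIdeal ≤ (q' z).asIdeal :=
    (PrimeSpectrum.le_iff_specializes _ _).2 (hwz.map q'.continuous)
  obtain ⟨x, hx, hx'⟩ := SetLike.exists_of_lt (lt_of_le_of_ne hle hne)
  have hlt := Ideal.comap_lt_comap_of_integral_mem_sdiff (R := R) hle ⟨hx, hx'⟩ (Algebra.IsIntegral.isIntegral x)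
  exact hlt.ne (congrArg PrimeSpectrum.asIdeal (((hqz w).trans hw).trans (hqz z).symm))

end Groth.L05.RelMinExists
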