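import Groth.Agent.L05.SmoothRelMin.Main
import Groth.Agent.L05.RelMinExists.Fibres
import Groth.Agent.L19.Topology
import Groth.Agent.L03.BlowPt.Factor
import Groth.Agent.L15.CohFlat
import Groth.Agent.L22.GeomConn.Irred

/-!
# Exceptional points of birational morphisms of regular surfaces over a Dedekind scheme
-/

set_option autoImplicit false
set_option linter.style.haveILetI false
set_option backward.isDefEq.respectTransparency false

universe u

open CategoryTheory CategoryTheory.Limits AlgebraicGeometry TopologicalSpace Topology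
open Groth.L05.SmoothRelMin

noncomputable section

namespace Groth.L05.RelMinExists

variable {R : Type u} [CommRing R] [IsDedekindDomain R]

theorem topologicalKrullDim_le_of_proper_surjective {X Y : Scheme.{u}} (g : X ⟶ Y) [IsProper g]
    (hs : Function.Surjective g) : topologicalKrullDim Y ≤ topologicalKrullDim X :=
  Groth.L19.topologicalKrullDim_le_of_surjective_specializing hs g.isClosedMap.specializingMap

theorem eq_of_dim_two_le {Y : Scheme.{u}} (hd : topologicalKrullDim Y ≤ 2) {y d : Y}
    (hy : 2 ≤ ringKrullDim (Y.presheaf.stalk y)) (h : y ⤳ d) : d = y := by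
  by_contra hne
  have h1 := Groth.L03.BlowPt.Factor.dim_add_one_le h (Ne.symm hne)
  have h2 := (Groth.L15.CohFlat.ringKrullDim_stalk_le d).trans hd
  have h3 : ((2 : WithBot ℕ∞) + 1) ≤ 2 := ((add_le_add hy le_rfl).trans h1).trans h2
  exact absurd h3 (by decide)

/-- The structure of a birational morphism: the target is integral, the map is surjective, and it is an
isomorphism outside finitely many closed points of closed fibres, over each of which it contracts a curve. -/
theorem exists_isIso_open (X Y : Over (Spec (CommRingCat.of R))) [IsIntegral X.left] [IsProper X.hom] [Flat X.hom]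
    [IsProper Y.hom] [Flat Y.hom] (hd : topologicalKrullDim X.left ≤ 2)
    (hY : ∀ y : Y.left, IsRegularLocalRing (Y.left.presheaf.stalk y)) (g : X ⟶ Y)
    (hg : IsIso ((Neron.genericFibre R).map g)) :
    ∃ (_ : IsIntegral Y.left), Function.Surjective g.left ∧ g.left (genericPoint X.left) = genericPoint Y.left ∧
      ∃ V : Y.left.Opens, IsIso (g.left ∣_ V) ∧ genericPoint Y.left ∈ V ∧ ∀ y : Y.left, y ∉ V →
        2 ≤ ringKrullDim (Y.left.presheaf.stalk y) ∧ (Y.hom y).asIdeal ≠ ⊥ ∧ (∀ d, y ⤳ d → d = y) ∧
        ∀ z : X.left, g.left z = y → ∃ η d : X.left, g.left η = y ∧ η ⤳ z ∧ η ⤳ d ∧ η ≠ d := by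
  haveI : IsPreimmersion (Neron.genPt R) := IsPreimmersion.of_isLocalization (nonZeroDivisors R)
  haveI := hg
  let jX := pullback.fst X.hom (Neron.genPt R)
  let jY := pullback.fst Y.hom (Neron.genPt R)
  haveI : IsPreimmersion jX := MorphismProperty.pullback_fst (P := @IsPreimmersion) _ _ inferInstance
  haveI : IsPreimmersion jY := MorphismProperty.pullback_fst (P := @IsPreimmersion) _ _ inferInstance
  let e := ((Neron.genericFibre R).map g).left
  haveI : IsIso e := inferInstanceAs (IsIso ((Over.forget _).map ((Neron.genericFibre R).map g)))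
  have hej : e ≫ jY = jX ≫ g.left := pullback.lift_fst _ _ _
  haveI : IsLocallyNoetherian X.left := LocallyOfFiniteType.isLocallyNoetherian X.hom
  haveI : IsLocallyNoetherian Y.left := LocallyOfFiniteType.isLocallyNoetherian Y.hom
  haveI : IsProper (g.left ≫ Y.hom) := by rw [Over.w g]; infer_instance
  haveI : IsProper g.left := IsProper.of_comp g.left Y.hom
  have hw : ∀ x : X.left, Y.hom (g.left x) = X.hom x := fun x => by rw [← Scheme.Hom.comp_apply, Over.w]
  -- over the generic point the map is bijective
  have hgen : ∀ y : Y.left, (Y.hom y).asIdeal = ⊥ → ∃! x : X.left, g.left x = y := fun y hy => by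
    obtain ⟨b, rfl⟩ := mem_range_fst Y y hy
    obtain ⟨a, rfl⟩ := e.homeomorph.surjective b
    have he : g.left (jX a) = jY (e a) := by rw [← Scheme.Hom.comp_apply, ← hej, Scheme.Hom.comp_apply]; rfl
    refine ⟨jX a, he, fun x hx => ?_⟩
    obtain ⟨a', rfl⟩ := mem_range_fst X x (by rw [← hw, hx]; exact hy)
    rw [← Scheme.Hom.comp_apply, ← hej, Scheme.Hom.comp_apply] at hx
    exact congrArg _ (e.homeomorph.injective (jY.isEmbedding.injective hx))
  let η₀ : Spec (CommRingCat.of R) := (⊥ : PrimeSpectrum R)
  have hη₀ : ∀ s : Spec (CommRingCat.of R), η₀ ⤳ s := fun s => (PrimeSpectrum.le_iff_specializes _ _).1 bot_le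
  have hsurj : Function.Surjective g.left := fun y => by
    obtain ⟨w, hwy, hw0⟩ := Flat.generalizingMap Y.hom (hη₀ (Y.hom y))
    obtain ⟨x, hx, -⟩ := hgen w (congrArg PrimeSpectrum.asIdeal hw0)
    exact hwy.mem_closed g.left.isClosedMap.isClosed_range ⟨x, hx⟩
  haveI : IrreducibleSpace Y.left := by
    have h := (IrreducibleSpace.isIrreducible_univ X.left).image g.left g.left.continuous.continuousOn
    rw [Set.image_univ, hsurj.range_eq] at h
    exact { isPreirreducible_univ := h.2, toNonempty := ⟨g.left (genericPoint X.left)⟩ }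
  have hYn : Pi1.IsNormalScheme Y.left := fun y => by
    haveI := hY y
    haveI := Groth.L01.isDomain_of_regular (Y.left.presheaf.stalk y)
    exact ⟨inferInstance, Groth.L03.RegularNormal.isIntegrallyClosed _⟩
  haveI : IsReduced Y.left := by
    haveI : ∀ y : Y.left, _root_.IsReduced (Y.left.presheaf.stalk y) := fun y => by
      haveI := (hYn y).1; infer_instance
    exact isReduced_of_isReduced_stalk Y.left
  haveI : IsIntegral Y.left := isIntegral_of_irreducibleSpace_of_isReduced Y.left
  have hξ : g.left (genericPoint X.left) = genericPoint Y.left := by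
    refine ((genericPoint_spec X.left).image g.left.continuous).eq ?_
    show IsGenericPoint (genericPoint Y.left) (closure (g.left '' Set.univ))
    rw [Set.image_univ, hsurj.range_eq, closure_univ]
    exact genericPoint_spec Y.left
  have hξ0 : (X.hom (genericPoint X.left)).asIdeal = ⊥ := by
    obtain ⟨w, hwy, hw0⟩ := Flat.generalizingMap X.hom (hη₀ (X.hom (genericPoint X.left)))
    have : w = genericPoint X.left := (hwy.antisymm (genericPoint_specializes w)).eq
    rw [← this, hw0]
    rfl
  have hbir : Function.Bijective (g.left.stalkMap (genericPoint X.left)) := by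
    obtain ⟨a, ha⟩ := mem_range_fst X _ hξ0
    have hFY : IsField (Y.left.presheaf.stalk (g.left (genericPoint X.left))) := by
      rw [hξ]; exact Field.toIsField Y.left.functionField
    have hFX : IsField (X.left.presheaf.stalk (jX a)) := by rw [ha]; exact Field.toIsField X.left.functionField
    refine ⟨injective_of_isField hFY _, ?_⟩
    have key : ∀ φ : pullback X.hom (Neron.genPt R) ⟶ Y.left, φ = e ≫ jY → Function.Surjective (φ.stalkMap a) := by
      rintro _ rfl
      rw [Scheme.Hom.stalkMap_comp]
      exact (ConcreteCategory.bijective_of_isIso (e.stalkMap a)).2.comp (jY.stalkMap_surjective (e a))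
    have h := key (jX ≫ g.left) hej.symm
    rw [Scheme.Hom.stalkMap_comp] at h
    rw [← ha]
    intro u
    obtain ⟨v, hv⟩ := h (jX.stalkMap a u)
    exact ⟨v, injective_of_isField hFX (jX.stalkMap a).hom hv⟩
  obtain ⟨V, hVi, hViso, hVdim⟩ := Groth.Agent.S11555.result g.left hYn hξ hbir
  refine ⟨inferInstance, hsurj, hξ, V, hVi, ?_, fun y hyV => ?_⟩
  · by_contra h
    have h2 := hVdim _ h
    haveI := hY (genericPoint Y.left)
    rw [ringKrullDim_eq_zero_of_isField (Field.toIsField Y.left.functionField)] at h2
    exact absurd h2 (by decide)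
  have hnoniso := hViso y hyV
  let ι := g.left.fiberι y
  haveI : LocallyOfFiniteType (g.left.fiberToSpecResidueField y) :=
    MorphismProperty.pullback_snd (P := @LocallyOfFiniteType) _ _ inferInstance
  haveI : IsLocallyNoetherian (g.left.fiber y) :=
    LocallyOfFiniteType.isLocallyNoetherian (g.left.fiberToSpecResidueField y)
  have hι : ∀ a, g.left (ι a) = y := fun a => by
    have h : ι a ∈ Set.range ι := ⟨a, rfl⟩
    rwa [Scheme.Hom.range_fiberι] at h
  have hmemF : ∀ x : X.left, g.left x = y → x ∈ Set.range ι := fun x hx => by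
    rw [Scheme.Hom.range_fiberι]; exact hx
  have hs : (Y.hom y).asIdeal ≠ ⊥ := by
    intro hs
    obtain ⟨x, hx, hx'⟩ := hgen y hs
    obtain ⟨a, -⟩ := hmemF x hx
    haveI : Subsingleton (g.left.fiber y) :=
      ⟨fun b c => ι.isEmbedding.injective ((hx' _ (hι b)).trans (hx' _ (hι c)).symm)⟩
    refine hnoniso a ?_
    rw [Subsingleton.eq_univ_of_nonempty (Set.singleton_nonempty a)]
    exact isOpen_univ
  have hdY : topologicalKrullDim Y.left ≤ 2 := (topologicalKrullDim_le_of_proper_surjective g.left hsurj).trans hd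
  refine ⟨hVdim y hyV, hs, fun d hd' => eq_of_dim_two_le hdY (hVdim y hyV) hd', ?_⟩
  -- every point of the fibre has a non-closed generisation in the fibre
  have hη : ∀ z : X.left, g.left z = y → ∃ η d : X.left, g.left η = y ∧ η ⤳ z ∧ η ⤳ d ∧ η ≠ d := by
    intro z hz
    by_cases hzc : ∀ d, z ⤳ d → d = z
    · obtain ⟨a, rfl⟩ := hmemF z hz
      have hcl : IsClosed ({a} : Set (g.left.fiber y)) := by
        refine isClosed_iff_nhds.2 fun b hb => ?_
        have hb' : b ∈ closure ({a} : Set (g.left.fiber y)) := mem_closure_iff_nhds.2 hb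
        exact ι.isEmbedding.injective (hzc _ ((specializes_iff_mem_closure.2 hb').map ι.continuous))
      have hno := hnoniso a
      contrapose! hno
      exact Groth.L20.QfCurve.isOpen_singleton hcl fun b hb => ι.isEmbedding.injective <| by
        by_contra hne
        exact hne (hno (ι b) (ι a) (hι b) (hb.map ι.continuous) (hb.map ι.continuous))
    · push_neg at hzc
      obtain ⟨d, hd, hdz⟩ := hzc
      exact ⟨z, d, hz, specializes_refl z, hd, fun h => hdz h.symm⟩
  exact hη

/-- A point over which a birational morphism is not an isomorphism lies over a bad fibre. -/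
theorem base_mem_of_exceptional (X Y : Over (Spec (CommRingCat.of R))) [IsIntegral X.left] [IsProper X.hom] [Flat X.hom]
    [IsProper Y.hom] [Flat Y.hom] (hd : topologicalKrullDim X.left ≤ 2)
    (T : Set (Spec (CommRingCat.of R)))
    (hT : ∀ z : X.left, (X.hom z).asIdeal ≠ ⊥ → X.hom z ∉ T →
        ∃ e : X.left, X.hom e = X.hom z ∧ e ⤳ z ∧ ∀ w : X.left, X.hom w = X.hom z → w ⤳ z → e ⤳ w)
    (g : X ⟶ Y) [IsProper g.left] (hsurj : Function.Surjective g.left)
    (hgen : (X.hom (genericPoint X.left)).asIdeal = ⊥)
    (y : Y.left) (hy : 2 ≤ ringKrullDim (Y.left.presheaf.stalk y)) (hs : (Y.hom y).asIdeal ≠ ⊥)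
    (hη : ∀ z : X.left, g.left z = y → ∃ η d : X.left, g.left η = y ∧ η ⤳ z ∧ η ⤳ d ∧ η ≠ d) :
    Y.hom y ∈ T := by
  by_contra hyT
  haveI : IsLocallyNoetherian Y.left := LocallyOfFiniteType.isLocallyNoetherian Y.hom
  have hw : ∀ x : X.left, Y.hom (g.left x) = X.hom x := fun x => by rw [← Scheme.Hom.comp_apply, Over.w]
  have hstable : ∀ z w : X.left, g.left z = y → X.hom w = Y.hom y → w ⤳ z → g.left w = y := by
    intro z w hz hws hwz
    obtain ⟨η, d, hηy, hηz, hηd, hne⟩ := hη z hz
    have hzs : X.hom z = Y.hom y := by rw [← hw, hz]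
    obtain ⟨e, hes, -, he⟩ := hT z (hzs ▸ hs) (hzs ▸ hyT)
    have hee : e ⤳ η := he η (by rw [← hw, hηy, hzs]) hηz
    have h2 : e = η := eq_of_chain hd (genericPoint_specializes _) hee hηd
      (fun h => hs (by rw [← h] at hes; rw [← hzs, ← hes]; exact hgen)) hne
    have h3 : η ⤳ w := h2 ▸ he w (hws.trans hzs.symm) hwz
    have ha := h3.map g.left.continuous
    have hb := hwz.map g.left.continuous
    rw [hηy] at ha
    rw [hz] at hb
    exact (hb.antisymm ha).eq
  have hdim := ringKrullDim_stalk_le_one Y.hom y hs fun w hws hwy => by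
    obtain ⟨x, rfl⟩ := hsurj w
    obtain ⟨z, hxz, hz⟩ : ∃ z, x ⤳ z ∧ g.left z = y := by
      obtain ⟨z, hz, hzy⟩ := hwy.mem_closed (g.left.isClosedMap _ (isClosed_closure (s := ({x} : Set X.left))))
        ⟨x, subset_closure rfl, rfl⟩
      exact ⟨z, specializes_iff_mem_closure.2 hz, hzy⟩
    exact hstable z x hz (by rw [← hw]; exact hws) hxz
  exact absurd (hy.trans hdim) (by decide)

end Groth.L05.RelMinExists
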